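import Groth.Agent.CohqB.RelVan
import Groth.Agent.PerfA.Restrict

/-!
# Vanishing of higher direct images in terms of the cohomology of charts

For `f : X ⟶ S` quasi-compact and quasi-separated, `M` quasi-coherent and cartesian squares
`P i ⟶ X`, `P i ⟶ V i` over jointly surjective open immersions `V i ⟶ S` with `V i` affine:
`R^p f_* M = 0` iff `H^p(P i, M|) = 0` for all `i`.
-/

set_option autoImplicit false
universe u

open CategoryTheory CategoryTheory.Limits AlgebraicGeometry Opposite TopologicalSpace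

namespace Groth.Agent.Krr.H454.Bridge

variable {X S U V : Scheme.{u}} {f : X ⟶ S} {f' : U ⟶ V} {j' : U ⟶ X} {j : V ⟶ S}
  [IsOpenImmersion j'] [IsOpenImmersion j]

/-- An affine base: `R^p f_* M = 0` iff `H^p(X, M) = 0`. -/
theorem isZero_RpushAb_iff_of_isAffine {X S : Scheme.{u}} [IsAffine S] (f : X ⟶ S) [QuasiCompact f]
    [QuasiSeparated f] {M : X.Modules} (hM : Coh.IsQCoh M) (p : ℕ) :
    IsZero ((Coh.RpushAb f p).obj (Coh.toAb M)) ↔ Subsingleton (Coh.HH X M p) := by
  constructor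
  · intro h
    obtain ⟨e⟩ := S0032.result f M p
    have h1 : IsZero (((Coh.RpushAb f p).obj (Coh.toAb M)).obj.obj (op ⊤)) := by
      rw [IsZero.iff_id_eq_zero] at h ⊢
      have h2 := congrArg (fun φ : (Coh.RpushAb f p).obj (Coh.toAb M) ⟶ (Coh.RpushAb f p).obj (Coh.toAb M) =>
        φ.hom.app (op ⊤)) h
      exact h2
    have h2 := AddCommGrpCat.subsingleton_of_isZero h1
    exact e.toEquiv.subsingleton
  · intro h
    exact (Ega3B.RpushAbCmp.isZero_RpushAb_iff f M p).2 (CohqB.RelVan.isZero_Rpush f M hM p h)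

/-- One chart: `R^p f_* M = 0` implies `H^p(f⁻¹ V, M) = 0`. -/
theorem subsingleton_HH_of_isZero [QuasiCompact f] [QuasiSeparated f] [IsAffine V]
    (hp : IsPullback j' f' f j) {M : X.Modules} (hM : Coh.IsQCoh M) (p : ℕ)
    (h : IsZero ((Coh.RpushAb f p).obj (Coh.toAb M))) :
    Subsingleton (Coh.HH U (M.restrict j') p) := by
  have hqc : QuasiCompact f' := MorphismProperty.of_isPullback hp inferInstance
  have hqs : QuasiSeparated f' := MorphismProperty.of_isPullback hp inferInstance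
  have h1 : IsZero ((Coh.Rpush f p).obj M) := (Ega3B.RpushAbCmp.isZero_RpushAb_iff f M p).1 h
  have h2 : IsZero (((Coh.Rpush f p).obj M).restrict j) := (Scheme.Modules.restrictFunctor j).map_isZero h1
  have h3 : IsZero ((Coh.Rpush f' p).obj (M.restrict j')) :=
    h2.of_iso ((CohqA.RpushLoc.rpushRes hp.flip p).app M).symm
  have hM' : Coh.IsQCoh (M.restrict j') := PerfA.QCohSerre.isQCoh_restrict j' hM
  exact (isZero_RpushAb_iff_of_isAffine f' hM' p).1 ((Ega3B.RpushAbCmp.isZero_RpushAb_iff f' _ p).2 h3)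

/-- The criterion on charts. -/
theorem isZero_RpushAb_iff {X S : Scheme.{u}} {f : X ⟶ S} [QuasiCompact f] [QuasiSeparated f]
    {ι : Type*} {V P : ι → Scheme.{u}} {h : ∀ i, V i ⟶ S}
    [∀ i, IsOpenImmersion (h i)] [∀ i, IsAffine (V i)] (hs : ∀ s : S, ∃ i, s ∈ Set.range (h i)) {j : ∀ i, P i ⟶ X}
    [∀ i, IsOpenImmersion (j i)] {π : ∀ i, P i ⟶ V i} (hp : ∀ i, IsPullback (j i) (π i) f (h i))
    {M : X.Modules} (hM : Coh.IsQCoh M) (p : ℕ) :
    IsZero ((Coh.RpushAb f p).obj (Coh.toAb M)) ↔ ∀ i, Subsingleton (Coh.HH (P i) (M.restrict (j i)) p) := by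
  constructor
  · intro H i
    exact subsingleton_HH_of_isZero (hp i) hM p H
  · intro H
    rw [Ega3B.RpushAbCmp.isZero_RpushAb_iff]
    refine PerfA.Restrict.isZero_of_restrict _ fun x => ?_
    obtain ⟨i, y, hy⟩ := hs x
    refine ⟨V i, h i, inferInstance, y, hy, ?_⟩
    have hqc : QuasiCompact (π i) := MorphismProperty.of_isPullback (hp i) inferInstance
    have hqs : QuasiSeparated (π i) := MorphismProperty.of_isPullback (hp i) inferInstance
    have hM' : Coh.IsQCoh (M.restrict (j i)) := PerfA.QCohSerre.isQCoh_restrict (j i) hM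
    have h3 : IsZero ((Coh.Rpush (π i) p).obj (M.restrict (j i))) := CohqB.RelVan.isZero_Rpush (π i) _ hM' p (H i)
    exact h3.of_iso ((CohqA.RpushLoc.rpushRes (hp i).flip p).app M)

end Groth.Agent.Krr.H454.Bridge
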