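import Groth.Agent.Sga67.RegResol
import Groth.Agent.Sga67.FlatPre
import Groth.Agent.Sga67.PushFlat
import Groth.Agent.Sga67.CohBasic
import Groth.Agent.PerfC.PCCover
import Groth.Agent.PerfA.CohSerre
import Groth.Agent.CohqB.FiniteType2
import Groth.Agent.FormalA.PullbackQC

/-!
# Cohomology of the twists of `g^* M` on `P^r_A`, `M` coherent on `Spec A`, `A` Noetherian

`g : P^r_A ⟶ Spec A`.

* `exists_epi_free` : a coherent module on `Spec A` is a quotient of a finite free module.
* `hh_pullback_coh` : `H^q(P^r_A, O(j) ⊗ g^* M) = 0` for `q ≥ 1`, `j ≥ -r`.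
* `reg_one_coh` : if `0 → K → g^* M → F → 0` is exact, `F` is `0`-regular and `Γ(g^* M) → Γ(F)` is surjective then `K`
  is `1`-regular.
-/

set_option autoImplicit false
universe u

open CategoryTheory CategoryTheory.Limits AlgebraicGeometry Opposite TopologicalSpace

namespace Groth.Agent.Krr.H454.CohVan

open Groth.Agent.Sga67.CMReg Groth.Agent.Sga67.TwistProj Groth.Agent.Fga.HShift

variable {r : ℕ} {A : Type u} [CommRing A]

/-- A coherent module on `Spec A` is a quotient of a finite free module. -/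
theorem exists_epi_free {M : (Spec (CommRingCat.of A)).Modules} (hM : Coh.IsCoh M) :
    ∃ (n : ℕ) (p : FlatMod.freeMod (Spec (CommRingCat.of A)) n ⟶ M), Epi p := by
  have hq : Coh.IsQCoh M := hM.1
  exact PerfC.PCCover.exists_epi_of_hasFinGen
    (CohqB.FiniteType2.hasFinGen_of_finite M (CohqB.FiniteType2.finite_of_isFT M hM.2))

theorem hh_pullback_coh_aux [IsNoetherianRing A] (j : ℤ) (hj : -(r : ℤ) ≤ j) (k : ℕ) :
    ∀ (q : ℕ) (_ : 1 ≤ q) (_ : r < q + k) (M : (Spec (CommRingCat.of A)).Modules) (_ : Coh.IsCoh M),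
    Subsingleton (Coh.HH (CohB1.ProjSpace r A)
      ((tA r A j).obj ((Scheme.Modules.pullback (CohB1.ProjSpace.toSpec r A)).obj M)) q) := by
  have hN : IsNoetherianRing (CommRingCat.of A) := ‹IsNoetherianRing A›
  induction k with
  | zero =>
    intro q hq hr M hM
    have hq' : Coh.IsQCoh ((Scheme.Modules.pullback (CohB1.ProjSpace.toSpec r A)).obj M) :=
      FormalA.PullbackQC.isQCoh_pullback _ _ hM.1
    exact (hh_iff _ j q).1 (subsingleton_of_gt hq' j q (by omega))
  | succ k ih =>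
    intro q hq hr M hM
    obtain ⟨n, p, hp⟩ := exists_epi_free hM
    let T : ShortComplex (Spec (CommRingCat.of A)).Modules := ShortComplex.mk (kernel.ι p) p (kernel.condition p)
    have hT : T.ShortExact :=
      { exact := ShortComplex.exact_of_f_is_kernel _ (kernelIsKernel _)
        mono_f := inferInstanceAs (Mono (kernel.ι p))
        epi_g := hp }
    have hfree : Coh.IsCoh (FlatMod.freeMod (Spec (CommRingCat.of A)) n) := PerfA.CohSerre.isCoh_freeMod n
    have hK : Coh.IsCoh T.X₁ := Sga67.CohBasic.isCoh_kernel p hfree hM.1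
    have hfl : PreservesFiniteLimits (Scheme.Modules.pullback (CohB1.ProjSpace.toSpec r A)) :=
      Sga67.FlatPre.preservesFiniteLimits_pullback _
    have hT' : ((T.map (Scheme.Modules.pullback (CohB1.ProjSpace.toSpec r A))).map (tA r A j)).ShortExact :=
      (hT.map_of_exact _).map_of_exact _
    refine subsingleton₃ hT' q ?_ ?_
    · exact hh_freeMod _ n j q (S0844.result A r j q (by omega) (by omega))
    · exact ih (q + 1) (by omega) (by omega) _ hK

/-- `H^q(P^r_A, O(j) ⊗ g^* M) = 0` for `q ≥ 1`, `j ≥ -r`, `M` coherent. -/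
theorem hh_pullback_coh [IsNoetherianRing A] {M : (Spec (CommRingCat.of A)).Modules} (hM : Coh.IsCoh M)
    (j : ℤ) (hj : -(r : ℤ) ≤ j) (q : ℕ) (hq : 1 ≤ q) :
    Subsingleton (Coh.HH (CohB1.ProjSpace r A)
      ((tA r A j).obj ((Scheme.Modules.pullback (CohB1.ProjSpace.toSpec r A)).obj M)) q) :=
  hh_pullback_coh_aux j hj r q hq (by omega) M hM

/-- The kernel is `1`-regular. -/
theorem reg_one_coh [IsNoetherianRing A] {M : (Spec (CommRingCat.of A)).Modules} (hM : Coh.IsCoh M)
    {T : ShortComplex (CohB1.ProjSpace r A).Modules} (hT : T.ShortExact)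
    (e : T.X₂ ≅ (Scheme.Modules.pullback (CohB1.ProjSpace.toSpec r A)).obj M)
    (hreg : Reg T.X₃ 0) (hΓ : Function.Surjective (T.g.app ⊤)) : Reg T.X₁ 1 := by
  have hmid : ∀ (j : ℤ), -(r : ℤ) ≤ j → ∀ q : ℕ, 1 ≤ q →
      Subsingleton (Coh.HH (CohB1.ProjSpace r A) ((tA r A j).obj T.X₂) q) := fun j hj q hq =>
    subsingleton_of_iso ((tA r A j).mapIso e).symm q (hh_pullback_coh hM j hj q hq)
  rw [reg_iff] at hreg ⊢
  intro q h1 hq
  obtain ⟨p, rfl⟩ : ∃ p, q = p + 1 := ⟨q - 1, by omega⟩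
  rcases Nat.eq_zero_or_pos p with rfl | hp
  · have h2 := Sga67.RegResol.hh_one hT hΓ ((hh_tA_zero 1).1 (hmid 0 (by omega) 1 le_rfl))
    have e1 : (1 : ℤ) - ((0 + 1 : ℕ) : ℤ) = 0 := by norm_num
    rw [e1]
    exact (hh_tA_zero _).2 h2
  · have h3 := hreg p hp (by omega)
    have e1 : (1 : ℤ) - ((p + 1 : ℕ) : ℤ) = 0 - (p : ℤ) := by push_cast; ring
    rw [e1]
    exact subsingleton₁ (shortExact_tA hT _) p h3 (hmid _ (by omega) (p + 1) (by omega))

end Groth.Agent.Krr.H454.CohVan
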