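import Groth.Agent.Krr.H454.Bridge
import Groth.Agent.Krr.H454.CohVan
import Groth.Agent.Sga67.ResolGlob745
import Groth.Agent.FormalA.PullbackQC
import Groth.Agent.S0036
import Groth.Prelude.Def_KRR

/-!
# Regular sheaves on `P^n_Y`: the counit and its kernel

* `isRegSheaf_iff` : a quasi-coherent `F` on `P^n_Y` is regular in the sense of `KRR.IsRegSheaf` iff its restrictions
  to the charts `P^n_A`, `Spec A ⊆ Y` an affine open, are `0`-regular (`Sga67.CMReg.Reg`).
* `isZero_RpushAb_tw` : `R^i p_* F(j) = 0` for `i ≥ 1`, `j ≥ -i`, if `F` is regular and quasi-coherent.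
* `epi_cou`, `isRegSheaf_ker` : `p^* p_* F ⟶ F` is epi and its kernel twisted by one is regular (`F` coherent, `Y`
  locally Noetherian).
-/

set_option autoImplicit false
universe u

open CategoryTheory CategoryTheory.Limits AlgebraicGeometry Opposite TopologicalSpace

namespace Groth.Agent.Krr.H454.RegSheaf

open Groth.Agent.Sga67.CMReg Groth.Agent.Sga67.TwistProj Groth.Agent.Fga.HShift Groth.Agent.Sga67.TwistOver
  Groth.Agent.Sga67.ResolGlob745 Groth.Agent.Ega3A

variable {n : ℕ} {Y : Scheme.{u}}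

/-- The standard charts of `Y`: all affine opens. -/
noncomputable def hh (V : Y.affineOpens) : Spec (CommRingCat.of Γ(Y, V.1)) ⟶ Y :=
  IsAffineOpen.fromSpec (show IsAffineOpen V.1 from V.2)

instance isOpenImmersion_hh (V : Y.affineOpens) : IsOpenImmersion (hh V) :=
  IsAffineOpen.isOpenImmersion_fromSpec (show IsAffineOpen V.1 from V.2)

theorem hh_cover (s : Y) : ∃ V : Y.affineOpens, s ∈ Set.range (hh V) := by
  obtain ⟨V, hV, hs, -⟩ := Opens.isBasis_iff_nbhd.mp Y.isBasis_affineOpens (show s ∈ (⊤ : Y.Opens) from trivial)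
  refine ⟨⟨V, hV⟩, ?_⟩
  have h1 := (show IsAffineOpen V from hV).range_fromSpec
  have h2 : Set.range (hh (⟨V, hV⟩ : Y.affineOpens)) = V := h1
  rw [h2]
  exact hs

/-- The charts of `P^n_Y`. -/
noncomputable abbrev cc (n : ℕ) (V : Y.affineOpens) : CohB1.ProjSpace n Γ(Y, V.1) ⟶ KRR.PY n Y :=
  PChart.chart n (hh V)

theorem cc_isPullback (V : Y.affineOpens) :
    IsPullback (cc n V) (CohB1.ProjSpace.toSpec n Γ(Y, V.1)) (KRR.pr n Y) (hh V) :=
  PChart.isPullback_chart n (hh V)

instance quasiCompact_pr : QuasiCompact (KRR.pr n Y) := by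
  have := Ega3B.ProjProper.isProper_toBase n Y
  infer_instance

instance quasiSeparated_pr : QuasiSeparated (KRR.pr n Y) := by
  have := Ega3B.ProjProper.isProper_toBase n Y
  infer_instance

theorem isQCoh_twF {F : (KRR.PY n Y).Modules} (hF : Coh.IsQCoh F) (d : ℤ) : Coh.IsQCoh (KRR.twF n Y d F) :=
  PerfA.QCohSerre.isQCoh_of_iso (Ega2.Tens.swap F (Twist.twistOver n Y d))
    (Ega2.TensGen.isQCoh_tensor hF (Ega3B.ProjFrame.isInvertible_twistOver n d))

/-- `R^q p_* F(d) = 0` on charts. -/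
theorem isZero_RpushAb_twF_iff {F : (KRR.PY n Y).Modules} (hF : Coh.IsQCoh F) (d : ℤ) (q : ℕ) :
    IsZero ((Coh.RpushAb (KRR.pr n Y) q).obj (Coh.toAb (KRR.twF n Y d F))) ↔
      ∀ V : Y.affineOpens, Subsingleton (Coh.HH (CohB1.ProjSpace n Γ(Y, V.1))
        ((tA n Γ(Y, V.1) d).obj (F.restrict (cc n V))) q) := by
  rw [Bridge.isZero_RpushAb_iff (ι := Y.affineOpens) (f := KRR.pr n Y) (h := hh) hh_cover
    (fun V => cc_isPullback (n := n) V) (isQCoh_twF hF d) q]
  exact forall_congr' fun V => ⟨fun h => subsingleton_of_iso (twIso (hh V) d F) q h,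
    fun h => subsingleton_of_iso (twIso (hh V) d F).symm q h⟩

theorem isQCoh_restrict {F : (KRR.PY n Y).Modules} (hF : Coh.IsQCoh F) (V : Y.affineOpens) :
    Coh.IsQCoh (F.restrict (cc n V)) := PerfA.QCohSerre.isQCoh_restrict _ hF

/-- Regularity on charts. -/
theorem isRegSheaf_iff {F : (KRR.PY n Y).Modules} (hF : Coh.IsQCoh F) :
    KRR.IsRegSheaf n Y F ↔ ∀ V : Y.affineOpens, Reg (F.restrict (cc n V)) 0 := by
  constructor
  · intro h V
    rw [reg_iff]
    intro q hq _
    rw [zero_sub]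
    exact (isZero_RpushAb_twF_iff hF _ q).1 (h q hq) V
  · intro h q hq
    rw [isZero_RpushAb_twF_iff hF]
    intro V
    have h1 := (h V).subsingleton (isQCoh_restrict hF V) q hq
    rw [zero_sub] at h1
    exact (hh_iff _ _ _).1 h1

/-- `R^q p_* F(j) = 0` for `q ≥ 1`, `j ≥ -q`, if `F` is regular. -/
theorem isZero_RpushAb_tw {F : (KRR.PY n Y).Modules} (hF : Coh.IsQCoh F) (h : KRR.IsRegSheaf n Y F)
    (q : ℕ) (hq : 1 ≤ q) (j : ℤ) (hj : -(q : ℤ) ≤ j) :
    IsZero ((Coh.RpushAb (KRR.pr n Y) q).obj (Coh.toAb (KRR.twF n Y j F))) := by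
  rw [isRegSheaf_iff hF] at h
  rw [isZero_RpushAb_twF_iff hF]
  intro V
  exact (hh_iff _ _ _).1 (subsingleton_HH (isQCoh_restrict hF V) (h V) q hq j (by omega))

theorem epi_cou {F : (KRR.PY n Y).Modules} (hF : Coh.IsQCoh F) (h : KRR.IsRegSheaf n Y F) : Epi (cou F) := by
  rw [isRegSheaf_iff hF] at h
  exact Sga67.PushLocal.epi_counit hh_cover (fun V => cc_isPullback (n := n) V) F fun V =>
    epi_counit_self (isQCoh_restrict hF V) (h V) _

theorem isCoh_push [IsLocallyNoetherian Y] {F : (KRR.PY n Y).Modules} (hF : Coh.IsCoh F) :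
    Coh.IsCoh ((Scheme.Modules.pushforward (KRR.pr n Y)).obj F) := by
  have := Dcoh.DerSch.hasInjectiveResolutions (KRR.PY n Y)
  have := Ega3B.ProjProper.isProper_toBase n Y
  exact Sga67.CohBasic.isCoh_of_iso ((Scheme.Modules.pushforward (KRR.pr n Y)).rightDerivedZeroIsoSelf.app F)
    (S0036.result (KRR.pr n Y) F hF 0)

/-- `p_*` of the counit is a split epimorphism. -/
theorem push_cou_surjective (F : (KRR.PY n Y).Modules) (U : Y.Opens) :
    Function.Surjective ((cou F).app (KRR.pr n Y ⁻¹ᵁ U)) := by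
  intro s
  have tri := (Scheme.Modules.pullbackPushforwardAdjunction (KRR.pr n Y)).right_triangle_components F
  have h3 := congrArg (fun φ : (Scheme.Modules.pushforward (KRR.pr n Y)).obj F ⟶
    (Scheme.Modules.pushforward (KRR.pr n Y)).obj F => φ.app U s) tri
  exact ⟨_, h3⟩

/-- The exact sequence on a chart. -/
noncomputable abbrev kseq {A : Type u} [CommRing A] (h : Spec (CommRingCat.of A) ⟶ Y) [IsOpenImmersion h]
    (F : (KRR.PY n Y).Modules) : ShortComplex (CohB1.ProjSpace n A).Modules :=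
  (seq F).map (Scheme.Modules.restrictFunctor (PChart.chart n h))

theorem shortExact_kseq {A : Type u} [CommRing A] (h : Spec (CommRingCat.of A) ⟶ Y) [IsOpenImmersion h]
    (F : (KRR.PY n Y).Modules) [Epi (cou F)] : (kseq h F).ShortExact :=
  (shortExact_seq F).map_of_exact _

theorem surjective_chart {A : Type u} [CommRing A] (h : Spec (CommRingCat.of A) ⟶ Y) [IsOpenImmersion h]
    (F : (KRR.PY n Y).Modules) :
    Function.Surjective (((Scheme.Modules.restrictFunctor (PChart.chart n h)).map (cou F)).app ⊤) := by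
  have h2 := push_cou_surjective F (h ''ᵁ ⊤)
  rw [← image_top (r := n) h] at h2
  exact h2

/-- the middle term on a chart -/
noncomputable def kmid {A : Type u} [CommRing A] (h : Spec (CommRingCat.of A) ⟶ Y) [IsOpenImmersion h]
    (F : (KRR.PY n Y).Modules) :
    (kseq h F).X₂ ≅ (Scheme.Modules.pullback (CohB1.ProjSpace.toSpec n A)).obj ((Scheme.Modules.pullback h).obj
      ((Scheme.Modules.pushforward (CohB1.ProjSpaceOver.toBase n Y)).obj F)) :=
  midIso h _

theorem reg_ker_chart {A : Type u} [CommRing A] [IsNoetherianRing A] (h : Spec (CommRingCat.of A) ⟶ Y)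
    [IsOpenImmersion h] {F : (KRR.PY n Y).Modules} [Epi (cou F)]
    (hM : Coh.IsCoh ((Scheme.Modules.pullback h).obj
      ((Scheme.Modules.pushforward (CohB1.ProjSpaceOver.toBase n Y)).obj F)))
    (hreg : Reg (F.restrict (PChart.chart n h)) 0) : Reg ((kernel (cou F)).restrict (PChart.chart n h)) 1 :=
  CohVan.reg_one_coh (T := kseq h F) hM (shortExact_kseq h F) (kmid h F) hreg (surjective_chart h F)

theorem reg_ker [IsLocallyNoetherian Y] {F : (KRR.PY n Y).Modules} (hF : Coh.IsCoh F)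
    (h : KRR.IsRegSheaf n Y F) (V : Y.affineOpens) : Reg ((kernel (cou F)).restrict (cc n V)) 1 := by
  have hepi := epi_cou hF.1 h
  have hN : IsNoetherianRing Γ(Y, V.1) := IsLocallyNoetherian.component_noetherian V
  exact reg_ker_chart (hh V) (FormalA.PullbackQC.isCoh_pullback (hh V) _ (isCoh_push hF))
    ((isRegSheaf_iff hF.1).1 h V)

theorem isQCoh_ker [IsLocallyNoetherian Y] {F : (KRR.PY n Y).Modules} (hF : Coh.IsCoh F) :
    Coh.IsQCoh (kernel (cou F)) := by
  have h1 : Coh.IsQCoh ((Scheme.Modules.pullback (KRR.pr n Y)).obj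
      ((Scheme.Modules.pushforward (KRR.pr n Y)).obj F)) :=
    FormalA.PullbackQC.isQCoh_pullback _ _ (isCoh_push hF).1
  exact PerfA.QCohSerre.isQCoh_kernel _ h1 hF.1

/-- The kernel of the counit, twisted by one, is regular. -/
theorem isRegSheaf_ker [IsLocallyNoetherian Y] {F : (KRR.PY n Y).Modules} (hF : Coh.IsCoh F)
    (h : KRR.IsRegSheaf n Y F) : KRR.IsRegSheaf n Y (KRR.twF n Y 1 (kernel (cou F))) := by
  have hK := isQCoh_ker hF
  rw [isRegSheaf_iff (isQCoh_twF hK 1)]
  intro V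
  exact Sga67.RegResol.reg_of_iso (twIso (hh V) 1 _).symm ((reg_tA _ 1 0 1 (by norm_num)).2 (reg_ker hF h V))

end Groth.Agent.Krr.H454.RegSheaf
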